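import Mathlib

/-!
A finite type neighbourhood pinning a formal point modulo a power of the maximal ideal.
-/

set_option autoImplicit false

universe u

open AlgebraicGeometry CategoryTheory IsLocalRing

namespace Groth.Agent.CompletionRigid

/-- Elements of the base are dense in the completion. -/
theorem exists_sub_mem_pow {R : Type u} [CommRing R] {I : Ideal R} (hI : I.FG) (n : ℕ) (x : AdicCompletion I R) :
    ∃ r : R, x - algebraMap R (AdicCompletion I R) r ∈ (I ^ n).map (algebraMap R (AdicCompletion I R)) := by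
  obtain ⟨r, hr⟩ := Ideal.Quotient.mk_surjective (x.1 n)
  refine ⟨r, ?_⟩
  rw [← Submodule.restrictScalars_mem R, ← Ideal.smul_top_eq_map, AdicCompletion.pow_smul_top_eq_ker_eval hI]
  simp [AdicCompletion.algebraMap_apply, AdicCompletion.eval, sub_eq_zero, ← hr]

/-- The algebra core: pinning by adjoining coordinates. -/
theorem exists_ring {A B L : Type u} [CommRing A] [CommRing B] [CommRing L] [Algebra A B]
    [Algebra.FiniteType A B] (α : A →+* L) (φ : B →+* L) (hφ : φ.comp (algebraMap A B) = α)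
    (J : Ideal A) (hJ : J.FG)
    (hd : ∀ x : L, ∃ a q : A, IsUnit (α q) ∧ α q * x - α a ∈ J.map α) :
    ∃ (C : Type u) (_ : CommRing C) (ι : B →+* C) (ψ : C →+* L),
      ι.FiniteType ∧ ψ.comp ι = φ ∧
        ∀ φ' : B →+* L, φ'.comp (algebraMap A B) = α → (∃ ψ' : C →+* L, ψ'.comp ι = φ') →
          ∀ b, φ b - φ' b ∈ J.map α := by
  classical
  obtain ⟨s, hs⟩ := ‹Algebra.FiniteType A B›.1
  obtain ⟨n, μ, hμ⟩ := Submodule.fg_iff_exists_fin_generating_family.mp hJ
  choose a q hq hmem using fun b : s => hd (φ b)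
  have hmap : J.map α = Ideal.span (Set.range fun j => α (μ j)) := by
    conv_lhs => rw [← hμ]
    show Ideal.map α (Ideal.span (Set.range μ)) = _
    rw [Ideal.map_span, ← Set.range_comp]
    rfl
  choose c hc using fun b : s => Ideal.mem_span_range_iff_exists_fun.mp (hmap ▸ hmem b)
  let rel : s → MvPolynomial (s × Fin n) B := fun b =>
    MvPolynomial.C (algebraMap A B (q b) * (b : B) - algebraMap A B (a b)) -
      ∑ j, MvPolynomial.C (algebraMap A B (μ j)) * MvPolynomial.X (b, j)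
  let Q := Ideal.span (Set.range rel)
  let C := MvPolynomial (s × Fin n) B ⧸ Q
  let ι : B →+* C := (Ideal.Quotient.mk Q).comp MvPolynomial.C
  let ev : MvPolynomial (s × Fin n) B →+* L := MvPolynomial.eval₂Hom φ fun p => c p.1 p.2
  have hα : ∀ x, φ (algebraMap A B x) = α x := fun x => RingHom.congr_fun hφ x
  have hker : Q ≤ RingHom.ker ev := by
    refine Ideal.span_le.mpr (Set.range_subset_iff.mpr fun b => ?_)
    simp only [SetLike.mem_coe, RingHom.mem_ker, ev, rel, map_sub, map_sum, map_mul,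
      MvPolynomial.eval₂Hom_C, MvPolynomial.eval₂Hom_X', hα]
    rw [← hc b, sub_eq_zero]
    exact Finset.sum_congr rfl fun j _ => mul_comm _ _
  refine ⟨C, inferInstance, ι, Ideal.Quotient.lift Q ev hker, ?_, ?_, ?_⟩
  · have hC : (MvPolynomial.C : B →+* MvPolynomial (s × Fin n) B).FiniteType :=
      (RingHom.finiteType_algebraMap (A := B) (B := MvPolynomial (s × Fin n) B)).mpr inferInstance
    exact RingHom.FiniteType.comp
      (RingHom.FiniteType.of_surjective _ Ideal.Quotient.mk_surjective) hC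
  · refine RingHom.ext fun b => ?_
    show Ideal.Quotient.lift Q ev hker (Ideal.Quotient.mk Q (MvPolynomial.C b)) = _
    rw [Ideal.Quotient.lift_mk]
    exact MvPolynomial.eval₂Hom_C _ _ _
  rintro φ' hφ' ⟨ψ', rfl⟩ b
  have hα' : ∀ x, ψ' (ι (algebraMap A B x)) = α x := fun x => RingHom.congr_fun hφ' x
  have hb : b ∈ Algebra.adjoin A (s : Set B) := hs ▸ trivial
  induction hb using Algebra.adjoin_induction with
  | mem b hb =>
    let b' : s := ⟨b, hb⟩
    have h0 : Ideal.Quotient.mk Q (rel b') = 0 :=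
      Ideal.Quotient.eq_zero_iff_mem.mpr (Ideal.subset_span ⟨b', rfl⟩)
    have h1 : α (q b') * ψ' (ι b) - α (a b') ∈ J.map α := by
      have h2 := congrArg ψ' h0
      simp only [rel, map_sub, map_sum, map_mul, map_zero, sub_eq_zero] at h2
      have h3 : α (q b') * ψ' (ι b) - α (a b') =
          ∑ j, α (μ j) * ψ' (Ideal.Quotient.mk Q (MvPolynomial.X (b', j))) := by
        simp only [← hα']
        exact h2
      rw [h3]
      exact Ideal.sum_mem _ fun j _ => Ideal.mul_mem_right _ _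
        (Ideal.mem_map_of_mem _ (hμ ▸ Submodule.subset_span ⟨j, rfl⟩))
    refine (Ideal.unit_mul_mem_iff_mem _ (hq b')).mp ?_
    rw [mul_sub]
    have := Ideal.sub_mem _ (hmem b') h1
    rw [sub_sub_sub_cancel_right] at this
    exact this
  | algebraMap r => simp [hα, hα']
  | add x y _ _ hx hy =>
    rw [map_add, RingHom.map_add (ψ'.comp ι), add_sub_add_comm]
    exact add_mem hx hy
  | mul x y _ _ hx hy =>
    rw [map_mul, RingHom.map_mul (ψ'.comp ι),
      show φ x * φ y - (ψ'.comp ι) x * (ψ'.comp ι) y =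
        (φ x - (ψ'.comp ι) x) * φ y + (ψ'.comp ι) x * (φ y - (ψ'.comp ι) y) by ring]
    exact add_mem (Ideal.mul_mem_right _ _ hx) (Ideal.mul_mem_left _ _ hy)

theorem specMap_stalk {T : Scheme.{u}} {t : T} {W : T.Opens} (hW : IsAffineOpen W) (htW : t ∈ W)
    {L : CommRingCat.{u}} (σ : T.presheaf.stalk t ⟶ L) :
    Spec.map σ ≫ T.fromSpecStalk t = Spec.map (T.presheaf.germ W t htW ≫ σ) ≫ hW.fromSpec := by
  rw [← hW.fromSpecStalk_eq_fromSpecStalk htW, IsAffineOpen.fromSpecStalk, Spec.map_comp_assoc]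

/-- A factorization on rings gives a point and a local map. -/
theorem exists_point {T : Scheme.{u}} {t : T} {W : T.Opens} (hW : IsAffineOpen W) (htW : t ∈ W)
    {L C : CommRingCat.{u}} [IsLocalRing L] (σ : T.presheaf.stalk t ⟶ L) [IsLocalHom σ.hom]
    (ι : Γ(T, W) ⟶ C) (ψ : C ⟶ L) (h : ι ≫ ψ = T.presheaf.germ W t htW ≫ σ) :
    ∃ (t' : Spec C) (hg : (Spec.map ι ≫ hW.fromSpec) t' = t) (τ : (Spec C).presheaf.stalk t' ⟶ L),
      (T.presheaf.stalkCongr (Inseparable.of_eq hg)).inv ≫ (Spec.map ι ≫ hW.fromSpec).stalkMap t' ≫ τ = σ := by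
  have hfg : Spec.map ψ ≫ Spec.map ι ≫ hW.fromSpec = Spec.map σ ≫ T.fromSpecStalk t := by
    rw [specMap_stalk hW htW, ← h, Spec.map_comp_assoc]
  have hg : (Spec.map ι ≫ hW.fromSpec) (Spec.map ψ (closedPoint L)) = t := by
    show (Spec.map ψ ≫ Spec.map ι ≫ hW.fromSpec) (closedPoint L) = t
    rw [hfg, Scheme.Hom.comp_apply, Spec_closedPoint, Scheme.fromSpecStalk_closedPoint]
  refine ⟨_, hg, Scheme.stalkClosedPointTo (Spec.map ψ), ?_⟩
  apply Spec.map_injective
  rw [← cancel_mono (T.fromSpecStalk t), ← hfg, Spec.map_comp, Category.assoc, Spec.map_comp, Category.assoc,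
    TopCat.Presheaf.stalkCongr_inv, Scheme.SpecMap_stalkSpecializes_fromSpecStalk,
    Scheme.SpecMap_stalkMap_fromSpecStalk, Scheme.Spec_stalkClosedPointTo_fromSpecStalk_assoc]

/-- A factorization on stalks gives one on rings. -/
theorem exists_factor {T : Scheme.{u}} {t : T} {W : T.Opens} (hW : IsAffineOpen W) (htW : t ∈ W)
    {L C : CommRingCat.{u}} (ι : Γ(T, W) ⟶ C) (t' : Spec C) (hg : (Spec.map ι ≫ hW.fromSpec) t' = t)
    (τ : (Spec C).presheaf.stalk t' ⟶ L) :
    ∃ ψ : C ⟶ L, ι ≫ ψ = T.presheaf.germ W t htW ≫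
      ((T.presheaf.stalkCongr (Inseparable.of_eq hg)).inv ≫ (Spec.map ι ≫ hW.fromSpec).stalkMap t' ≫ τ) := by
  obtain ⟨ψ, hψ⟩ := Spec.map_surjective (Spec.map τ ≫ (Spec C).fromSpecStalk t')
  refine ⟨ψ, Spec.map_injective ?_⟩
  rw [← cancel_mono hW.fromSpec, ← specMap_stalk hW htW, Spec.map_comp_assoc, hψ, Spec.map_comp, Category.assoc,
    Spec.map_comp, Category.assoc, TopCat.Presheaf.stalkCongr_inv, Scheme.SpecMap_stalkSpecializes_fromSpecStalk,
    Category.assoc, Scheme.SpecMap_stalkMap_fromSpecStalk]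

/-- The scheme version. -/
theorem exists_pinning {T S : Scheme.{u}} [IsNoetherian T] [IsNoetherian S]
    (h : T ⟶ S) [LocallyOfFiniteType h] (t : T) (L : Type u) [CommRing L] [IsLocalRing L]
    (α₀ : (S.presheaf.stalk (h t)) →+* L) [IsLocalHom α₀]
    (σ : (T.presheaf.stalk t) →+* L) [IsLocalHom σ] (hσ : σ.comp (h.stalkMap t).hom = α₀) (N : ℕ)
    (hd : ∀ x : L, ∃ r, x - α₀ r ∈ (maximalIdeal (S.presheaf.stalk (h t)) ^ N).map α₀) :
    ∃ (T' : Scheme.{u}) (g : T' ⟶ T) (t' : T') (hg : g t' = t) (τ : (T'.presheaf.stalk t') →+* L),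
      LocallyOfFiniteType g ∧ QuasiCompact g ∧
      τ.comp ((g.stalkMap t').hom.comp (T.presheaf.stalkCongr (Inseparable.of_eq hg)).inv.hom) = σ ∧
      ∀ (σ' : (T.presheaf.stalk t) →+* L), σ'.comp (h.stalkMap t).hom = α₀ →
        (∃ τ' : (T'.presheaf.stalk t') →+* L,
          τ'.comp ((g.stalkMap t').hom.comp (T.presheaf.stalkCongr (Inseparable.of_eq hg)).inv.hom) = σ') →
        ∀ a, σ a - σ' a ∈ (maximalIdeal (S.presheaf.stalk (h t)) ^ N).map α₀ := by
  obtain ⟨V, hV, hsV, -⟩ := exists_isAffineOpen_mem_and_subset (x := h t) (U := ⊤) trivial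
  obtain ⟨W, hW, htW, hWV⟩ := exists_isAffineOpen_mem_and_subset (x := t) (U := h ⁻¹ᵁ V) hsV
  letI : Algebra Γ(S, V) Γ(T, W) := (h.appLE V W hWV).hom.toAlgebra
  haveI : Algebra.FiniteType Γ(S, V) Γ(T, W) := h.finiteType_appLE hV hW hWV
  haveI : IsNoetherianRing Γ(T, W) := IsLocallyNoetherian.component_noetherian ⟨W, hW⟩
  haveI : IsNoetherianRing Γ(S, V) := IsLocallyNoetherian.component_noetherian ⟨V, hV⟩
  letI := TopCat.Presheaf.algebra_section_stalk S.presheaf ⟨h t, hsV⟩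
  haveI := hV.isLocalization_stalk ⟨h t, hsV⟩
  let P := hV.primeIdealOf ⟨h t, hsV⟩
  let gV : Γ(S, V) →+* S.presheaf.stalk (h t) := (S.presheaf.germ V (h t) hsV).hom
  let gW : Γ(T, W) →+* T.presheaf.stalk t := (T.presheaf.germ W t htW).hom
  have hgerm : ∀ a, (h.stalkMap t).hom (gV a) = gW ((h.appLE V W hWV).hom a) := by
    intro a
    show (h.stalkMap t) (S.presheaf.germ V (h t) hsV a) = T.presheaf.germ W t htW ((h.appLE V W hWV) a)
    rw [Scheme.Hom.germ_stalkMap_apply, Scheme.Hom.appLE, CommRingCat.comp_apply, TopCat.Presheaf.germ_res_apply]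
  let α : Γ(S, V) →+* L := α₀.comp gV
  let J : Ideal Γ(S, V) := P.asIdeal ^ N
  have hmax : maximalIdeal (S.presheaf.stalk (h t)) = P.asIdeal.map gV :=
    (IsLocalization.AtPrime.map_eq_maximalIdeal P.asIdeal (S.presheaf.stalk (h t))).symm
  have hI : (maximalIdeal (S.presheaf.stalk (h t)) ^ N).map α₀ = J.map α := by
    rw [hmax, ← Ideal.map_pow, Ideal.map_map]
  have hd' : ∀ x : L, ∃ a q : Γ(S, V), IsUnit (α q) ∧ α q * x - α a ∈ J.map α := by
    intro x
    obtain ⟨r, hr⟩ := hd x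
    obtain ⟨⟨a, q⟩, haq⟩ := IsLocalization.surj P.asIdeal.primeCompl r
    refine ⟨a, q, (IsLocalization.map_units (S.presheaf.stalk (h t)) q).map α₀, ?_⟩
    have e : α a = α₀ r * α q := (congrArg α₀ haq).symm.trans (map_mul α₀ r _)
    rw [e, mul_comm (α₀ r), ← mul_sub, ← hI]
    exact Ideal.mul_mem_left _ _ hr
  let φ : Γ(T, W) →+* L := σ.comp gW
  have hφ : φ.comp (algebraMap Γ(S, V) Γ(T, W)) = α := RingHom.ext fun a => by
    show σ (gW ((h.appLE V W hWV).hom a)) = α₀ (gV a)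
    rw [← hgerm, ← hσ]
    rfl
  obtain ⟨C, _, ι, ψ, hι, hψ, hpin⟩ := exists_ring α φ hφ J (IsNoetherian.noetherian J) hd'
  let σc : T.presheaf.stalk t ⟶ CommRingCat.of L := CommRingCat.ofHom σ
  haveI : IsLocalHom σc.hom := ‹IsLocalHom σ›
  obtain ⟨t', hg, τ, hτ⟩ := exists_point hW htW σc (CommRingCat.ofHom ι) (CommRingCat.ofHom ψ)
    (CommRingCat.hom_ext hψ)
  let g : Spec (CommRingCat.of C) ⟶ T := Spec.map (CommRingCat.ofHom ι) ≫ hW.fromSpec
  haveI : LocallyOfFiniteType g := by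
    haveI : LocallyOfFiniteType (Spec.map (CommRingCat.ofHom ι)) :=
      (HasRingHomProperty.Spec_iff (P := @LocallyOfFiniteType)).mpr hι
    infer_instance
  haveI hCn : IsNoetherianRing C := by
    letI := ι.toAlgebra
    haveI : Algebra.FiniteType Γ(T, W) C := hι
    exact Algebra.FiniteType.isNoetherianRing Γ(T, W) C
  haveI : QuasiCompact g := by
    refine ⟨fun U _ _ => ?_⟩
    haveI : TopologicalSpace.NoetherianSpace (Spec (CommRingCat.of C)) :=
      inferInstanceAs (TopologicalSpace.NoetherianSpace (PrimeSpectrum C))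
    exact TopologicalSpace.NoetherianSpace.isCompact _
  refine ⟨_, g, t', hg, τ.hom, inferInstance, inferInstance, congrArg CommRingCat.Hom.hom hτ, ?_⟩
  rintro σ' hσ' ⟨τ', hτ'⟩
  have hfac : ∃ ψ' : C →+* L, ψ'.comp ι = σ'.comp gW := by
    obtain ⟨ψ', hψ'⟩ := exists_factor hW htW (CommRingCat.ofHom ι) t' hg
      (CommRingCat.ofHom τ' : (Spec (CommRingCat.of C)).presheaf.stalk t' ⟶ CommRingCat.of L)
    refine ⟨ψ'.hom, (congrArg CommRingCat.Hom.hom hψ').trans ?_⟩
    show (RingHom.comp _ _ : _ →+* L) = _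
    rw [← hτ']
    rfl
  have hB := hpin (σ'.comp gW) (RingHom.ext fun a => by
    show σ' (gW ((h.appLE V W hWV).hom a)) = α₀ (gV a)
    rw [← hgerm, ← hσ']
    rfl) hfac
  intro a
  letI := TopCat.Presheaf.algebra_section_stalk T.presheaf ⟨t, htW⟩
  haveI := hW.isLocalization_stalk ⟨t, htW⟩
  rw [hI]
  have : (Ideal.Quotient.mk (J.map α)).comp σ = (Ideal.Quotient.mk (J.map α)).comp σ' :=
    IsLocalization.ringHom_ext (hW.primeIdealOf ⟨t, htW⟩).asIdeal.primeCompl
      (RingHom.ext fun b => Ideal.Quotient.mk_eq_mk_iff_sub_mem _ _ |>.mpr (hB b))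
  exact (Ideal.Quotient.mk_eq_mk_iff_sub_mem _ _).mp (RingHom.congr_fun this a)

end Groth.Agent.CompletionRigid
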